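import Cfsg.Agent.Lib.ZStar.SylowCentralizer

/-!
# Automorphisms centralizing a Sylow 2-subgroup have abelian Sylow 2-subgroups

A variant of the configuration of `Lib.ZStar.SylowCentralizer` (helper7): in `L ⋊ Q` the involutions
in `Z(Q) ∩ [Q, Q]` are isolated.
-/

set_option autoImplicit false

namespace Cfsg.Agent.Lib.SylowAutAbelian

open Cfsg Subgroup
open scoped commutatorElement
open Cfsg.Agent.Lib

universe u

variable {H : Type u} [Group H]

/-- `H = L Q`, `P = (L ∩ P) Q`, and `Q` centralizes `L ∩ P`. -/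
structure Frame (P : Sylow 2 H) (L Q : Subgroup H) : Prop where
  normal : L.Normal
  QP : Q ≤ (P : Subgroup H)
  disj : ∀ x ∈ L, x ∈ Q → x = 1
  mul : ∀ h : H, ∃ l ∈ L, ∃ q ∈ Q, l * q = h
  cent : ∀ u ∈ L, u ∈ (P : Subgroup H) → ∀ q ∈ Q, q * u = u * q

variable {P : Sylow 2 H} {L Q : Subgroup H}

theorem mem_of_odd [Finite H] (c : Frame P L Q) {h : H} (ho : Odd (orderOf h)) : h ∈ L := by
  haveI := c.normal
  obtain ⟨l, hl, q, hq, rfl⟩ := c.mul h
  have h1 : ((l * q : H) : H ⧸ L) = (q : H ⧸ L) := by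
    rw [QuotientGroup.mk_mul, (QuotientGroup.eq_one_iff l).2 hl, one_mul]
  obtain ⟨k, hk⟩ := P.2 ⟨q, c.QP hq⟩
  have hk' : q ^ 2 ^ k = 1 := congrArg Subtype.val hk
  have h2 : ((q : H ⧸ L)) = 1 := by
    rw [← orderOf_eq_one_iff]
    refine Nat.eq_one_of_dvd_coprimes (Nat.Coprime.pow_right k (Nat.coprime_two_right.2 ho))
      (h1 ▸ orderOf_map_dvd (QuotientGroup.mk' L) (l * q)) (orderOf_dvd_of_pow_eq_one ?_)
    rw [← QuotientGroup.mk_pow, hk', QuotientGroup.mk_one]
  exact L.mul_mem hl ((QuotientGroup.eq_one_iff q).1 h2)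

/-- Decomposition of an element of `P`. -/
theorem exists_mul_of_mem (c : Frame P L Q) {r : H} (hr : r ∈ (P : Subgroup H)) :
    ∃ u ∈ L, u ∈ (P : Subgroup H) ∧ ∃ q ∈ Q, u * q = r := by
  obtain ⟨l, hl, q, hq, rfl⟩ := c.mul r
  exact ⟨l, hl, by simpa using mul_mem hr (inv_mem (c.QP hq)), q, hq, rfl⟩

/-- One step of a chain of tame intersections. -/
theorem step [Finite H] [Fact (Nat.Prime 2)] (c : Frame P L Q) {z : H} (hz : z ∈ Q)
    (hzd : z ∈ ⁅Q, Q⁆) (hzc : ∀ q ∈ Q, q * z = z * q) {R : Subgroup H} (hRP : R ≤ (P : Subgroup H)) (hzR : z ∈ R)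
    (hR : ¬ 2 ∣ ((P : Subgroup H) ⊓ normalizer (R : Set H)).relIndex (normalizer (R : Set H)))
    (IH : ∀ A : Subgroup H, A ≤ (P : Subgroup H) → z ∈ A → Nat.card R < Nat.card A →
      ∀ g, (∀ a ∈ A, g⁻¹ * a * g ∈ (P : Subgroup H)) → g⁻¹ * z * g = z)
    {x : H} (hx : x ∈ normalizer (R : Set H)) : x⁻¹ * z * x = z := by
  haveI := c.normal
  set N := normalizer (R : Set H) with hN
  set U : Subgroup H := R ⊓ L with hU
  set M : Subgroup H := N ⊓ centralizer (U : Set H) with hM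
  have hNU : ∀ g ∈ N, ∀ u ∈ U, g * u * g⁻¹ ∈ U := fun g hg u hu =>
    mem_inf.2 ⟨(mem_normalizer_iff.1 hg u).1 hu.1, c.normal.conj_mem u hu.2 g⟩
  have hNM : ∀ g ∈ N, ∀ m ∈ M, g * m * g⁻¹ ∈ M := fun g hg m hm => by
    refine mem_inf.2 ⟨N.mul_mem (N.mul_mem hg hm.1) (N.inv_mem hg),
      mem_centralizer_iff.2 fun u hu => ?_⟩
    have h1 := mem_centralizer_iff.1 hm.2 (g⁻¹ * u * g)
      (by simpa using hNU g⁻¹ (N.inv_mem hg) u hu)
    calc u * (g * m * g⁻¹) = g * ((g⁻¹ * u * g) * m) * g⁻¹ := by group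
      _ = g * (m * (g⁻¹ * u * g)) * g⁻¹ := by rw [h1]
      _ = g * m * g⁻¹ * u := by group
  set T : Subgroup H := (P : Subgroup H) ⊓ M with hT
  have hTp : IsPGroup 2 T := P.2.to_le inf_le_left
  -- `T` is a Sylow subgroup of `M`
  have hTM : ¬ 2 ∣ T.relIndex M := by
    let SN : Sylow 2 N :=
      ((P.2.to_le (inf_le_left (b := N))).comap_subtype (K := N)).toSylow hR
    haveI : (M.subgroupOf N).Normal := ⟨fun m hm g => hNM g g.2 m hm⟩
    have h1 := FusionMod.not_dvd_relIndex_inf_normal SN (M.subgroupOf N)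
    have h2 : (SN : Subgroup N) ⊓ M.subgroupOf N = T.subgroupOf N := by
      ext y
      simp only [mem_inf, mem_subgroupOf, hT]
      exact ⟨fun h => ⟨h.1.1, h.2⟩, fun h => ⟨⟨h.1, y.2⟩, h.2⟩⟩
    rwa [h2, relIndex_subgroupOf inf_le_left] at h1
  set C : Subgroup H := M ⊓ centralizer (R : Set H) with hC
  have hoddC : ∀ h ∈ M, Odd (orderOf h) → h ∈ C := by
    intro h hh ho
    refine mem_inf.2 ⟨hh, ?_⟩
    have hhL := mem_of_odd c ho
    obtain ⟨k, hk⟩ := IsPGroup.iff_card.1 ((P.2.to_le hRP).to_le (inf_le_left : U ≤ R))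
    have hpow : h ^ 2 ^ k ∈ centralizer (R : Set H) := mem_centralizer_iff.2 fun r hr => by
      set e := h * r * h⁻¹ * r⁻¹ with he
      have heU : e ∈ U := mem_inf.2
        ⟨R.mul_mem ((mem_normalizer_iff.1 hh.1 r).1 hr) (R.inv_mem hr),
          by rw [show e = h * (r * h⁻¹ * r⁻¹) by rw [he]; group]
             exact L.mul_mem hhL (c.normal.conj_mem _ (L.inv_mem hhL) r)⟩
      have hec := mem_centralizer_iff.1 hh.2 e heU
      have hn : ∀ i : ℕ, h ^ i * r * (h ^ i)⁻¹ = e ^ i * r := by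
        intro i
        induction i with
        | zero => simp
        | succ i ih =>
          have hei : h * e ^ i = e ^ i * h := (Commute.pow_right (hec.symm : Commute h e) i).eq
          calc h ^ (i + 1) * r * (h ^ (i + 1))⁻¹
              = h * (h ^ i * r * (h ^ i)⁻¹) * h⁻¹ := by rw [pow_succ']; group
            _ = (h * e ^ i) * r * h⁻¹ := by rw [ih]; group
            _ = e ^ i * (h * r * h⁻¹ * r⁻¹) * r := by rw [hei]; group
            _ = e ^ (i + 1) * r := by rw [← he, ← pow_succ]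
      have h1 := hn (2 ^ k)
      have he1 : e ^ 2 ^ k = 1 := by
        rw [← hk]
        exact congrArg Subtype.val (pow_card_eq_one' (x := (⟨e, heU⟩ : U)))
      rw [he1, one_mul] at h1
      exact (mul_inv_eq_iff_eq_mul.1 h1).symm
    obtain ⟨m, hm⟩ : ∃ m : ℕ, (h ^ 2 ^ k) ^ m = h :=
      exists_pow_eq_self_of_coprime
        (Nat.Coprime.pow_left k (Nat.coprime_two_left.2 ho))
    exact hm ▸ pow_mem hpow m
  haveI hCn : (C.subgroupOf M).Normal := ⟨fun y hy g => by
    refine mem_inf.2 ⟨M.mul_mem (M.mul_mem g.2 hy.1) (M.inv_mem g.2),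
      mem_centralizer_iff.2 fun r hr => ?_⟩
    have h1 : ((g : H)⁻¹ * r * g) * (y : H) = (y : H) * ((g : H)⁻¹ * r * g) :=
      mem_centralizer_iff.1 hy.2 _ ((mem_normalizer_iff''.1 g.2.1 r).1 hr)
    calc r * ((g : H) * y * (g : H)⁻¹) = g * (((g : H)⁻¹ * r * g) * y) * (g : H)⁻¹ := by group
      _ = g * (y * ((g : H)⁻¹ * r * g)) * (g : H)⁻¹ := by rw [h1]
      _ = g * y * (g : H)⁻¹ * r := by group⟩
  -- `M = C T`
  have hsplit : ∀ m ∈ M, ∃ t ∈ T, ∃ d ∈ C, t * d = m := by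
    intro m hm
    have hidx : ((C.subgroupOf M) ⊔ (T.subgroupOf M)) = ⊤ := by
      rw [← index_eq_one]
      have hq : IsPGroup 2 (M ⧸ C.subgroupOf M) := by
        intro y
        obtain ⟨y, rfl⟩ := QuotientGroup.mk_surjective y
        obtain ⟨a, b, hb, hab⟩ :=
          Nat.exists_eq_two_pow_mul_odd (orderOf_pos y).ne'
        refine ⟨a, ?_⟩
        rw [← QuotientGroup.mk_pow, QuotientGroup.eq_one_iff]
        refine hoddC _ (pow_mem y.2 _) ?_
        show Odd (orderOf (((y ^ 2 ^ a : M)) : H))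
        rw [Subgroup.orderOf_coe,
          orderOf_pow' y (pow_ne_zero a two_ne_zero), hab, Nat.gcd_mul_right_left,
          Nat.mul_div_cancel_left _ (by positivity)]
        exact hb
      obtain ⟨k, hk⟩ := IsPGroup.iff_card.1 hq
      have h1 : ((C.subgroupOf M) ⊔ (T.subgroupOf M)).index ∣ 2 ^ k :=
        hk ▸ index_dvd_of_le le_sup_left
      have h2 : ¬ 2 ∣ ((C.subgroupOf M) ⊔ (T.subgroupOf M)).index := fun h =>
        hTM (h.trans (index_dvd_of_le le_sup_right))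
      exact Nat.eq_one_of_dvd_coprimes
        (Nat.Coprime.pow_left k (Nat.prime_two.coprime_iff_not_dvd.2 h2)) h1 dvd_rfl
    have hmem : (⟨m, hm⟩ : M) ∈ T.subgroupOf M ⊔ C.subgroupOf M := by
      rw [sup_comm, hidx]; trivial
    obtain ⟨t, ht, d, hd, htd⟩ := mem_sup_of_normal_right.1 hmem
    exact ⟨t, ht, d, hd, congrArg Subtype.val htd⟩
  by_cases hTR : T ≤ R
  · -- then `Q ≤ R`
    have hQR : Q ≤ R := by
      by_contra hne
      have hQn : R ≤ normalizer (Q : Set H) := fun r hr => by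
        obtain ⟨v, hv, hvP, q, hq, rfl⟩ := exists_mul_of_mem c (hRP hr)
        refine mul_mem ?_ (le_normalizer hq)
        exact centralizer_le_normalizer (Q : Set H) (mem_centralizer_iff.2 fun s hs => c.cent v hv hvP s hs)
      have hlt : R < R ⊔ Q := lt_of_le_of_ne le_sup_left fun h => hne (h ▸ le_sup_right)
      obtain ⟨y, hy, hyR⟩ := SetLike.exists_of_lt
        (Transfer.lt_inf_normalizer (P.2.to_le (sup_le hRP c.QP)) hlt)
      have hyS : y ∈ ((R ⊔ Q : Subgroup H) : Set H) := hy.1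
      rw [coe_mul_of_left_le_normalizer_right R Q hQn] at hyS
      obtain ⟨r, hr, q, hq, rfl⟩ := hyS
      have hqN : q ∈ N := by
        simpa using N.mul_mem (N.inv_mem (le_normalizer hr)) hy.2
      refine hyR (R.mul_mem hr (hTR (mem_inf.2 ⟨c.QP hq, hqN, ?_⟩)))
      exact mem_centralizer_iff.2 fun u hu => (c.cent u hu.2 (hRP hu.1) q hq).symm
    obtain ⟨l, hlL, q₀, hq₀, rfl⟩ := c.mul x
    have hlN : l ∈ N := by simpa using N.mul_mem hx (N.inv_mem (le_normalizer (hQR hq₀)))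
    have key : ∀ t ∈ Q, ∀ q ∈ Q, l * (q⁻¹ * (t * q * t⁻¹)) * l⁻¹ = q⁻¹ * (t * q * t⁻¹) := by
      intro t ht q₁ hq₁
      set θ : H ≃* H := MulAut.conj t with hθdef
      have hθQ : ∀ q ∈ Q, θ q ∈ Q := fun q hq => by
        rw [hθdef, MulAut.conj_apply]; exact Q.mul_mem (Q.mul_mem ht hq) (Q.inv_mem ht)
      have hθL : ∀ x ∈ L, θ x ∈ L := fun x hx => by
        rw [hθdef, MulAut.conj_apply]; exact c.normal.conj_mem x hx t
      have hθU : ∀ u ∈ U, θ u = u := fun u hu => by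
        rw [hθdef, MulAut.conj_apply, c.cent u hu.2 (hRP hu.1) t ht, mul_inv_cancel_right]
      have hθR : ∀ r ∈ R, θ r ∈ R := fun r hr => by
        obtain ⟨v, hv, -, q, hq, rfl⟩ := exists_mul_of_mem c (hRP hr)
        have hvR : v ∈ R := by simpa using R.mul_mem hr (R.inv_mem (hQR hq))
        rw [map_mul, hθU v ⟨hvR, hv⟩]
        exact R.mul_mem hvR (hQR (hθQ q hq))
      have hsurj : ∀ r ∈ R, ∃ r' ∈ R, θ r' = r := fun r hr => by
        have heq : R.map θ.toMonoidHom = R := eq_of_le_of_card_ge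
          (map_le_iff_le_comap.2 hθR) (card_map_of_injective θ.injective).ge
        rw [← heq] at hr
        obtain ⟨r', hr', rfl⟩ := hr
        exact ⟨r', hr', rfl⟩
      have hθlN : θ l ∈ N := PSolvable.mem_normalizer_of_conj_mem fun r hr => by
        obtain ⟨r', hr', rfl⟩ := hsurj r hr
        rw [← map_inv, ← map_mul, ← map_mul]
        exact hθR _ ((mem_normalizer_iff.1 hlN r').1 hr')
      have hθlU : ∀ u ∈ U, θ l * u * (θ l)⁻¹ = l * u * l⁻¹ := fun u hu => by
        have h1 := hθU _ (hNU l hlN u hu)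
        rwa [map_mul, map_mul, map_inv, hθU u hu] at h1
      set w := l⁻¹ * θ l with hw
      have hwM : w ∈ M := mem_inf.2 ⟨N.mul_mem (N.inv_mem hlN) hθlN,
        mem_centralizer_iff.2 fun u hu => by
          have h1 : w * u * w⁻¹ = u := by
            calc w * u * w⁻¹ = l⁻¹ * (θ l * u * (θ l)⁻¹) * l := by rw [hw]; group
              _ = u := by rw [hθlU u hu]; group
          exact (mul_inv_eq_iff_eq_mul.1 h1).symm⟩
      have hwL : w ∈ L := L.mul_mem (L.inv_mem hlL) (hθL l hlL)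
      have hwQ : ∀ q ∈ Q, w * q * w⁻¹ = q := by
        intro q hq
        obtain ⟨t, ht, d, hd, htd⟩ := hsplit w hwM
        obtain ⟨v, hv, hvP, q₁, hq₁, hvq⟩ := exists_mul_of_mem c (ht.1 : t ∈ (P : Subgroup H))
        have hmem : w * q * w⁻¹ ∈ Q := by
          have h1 : d * q = q * d := (mem_centralizer_iff.1 hd.2 q (hQR hq)).symm
          have hq' := Q.mul_mem (Q.mul_mem hq₁ hq) (Q.inv_mem hq₁)
          have h2 : w * q * w⁻¹ = q₁ * q * q₁⁻¹ := by
            calc w * q * w⁻¹ = t * (d * q) * d⁻¹ * t⁻¹ := by rw [← htd]; group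
              _ = v * (q₁ * q * q₁⁻¹) * v⁻¹ := by rw [h1, ← hvq]; group
              _ = q₁ * q * q₁⁻¹ := by rw [← c.cent v hv hvP _ hq']; group
          rw [h2]
          exact hq'
        have h3 : w * q * w⁻¹ * q⁻¹ ∈ L := by
          rw [show w * q * w⁻¹ * q⁻¹ = w * (q * w⁻¹ * q⁻¹) by group]
          exact L.mul_mem hwL (c.normal.conj_mem _ (L.inv_mem hwL) q)
        exact mul_inv_eq_one.1 (c.disj _ h3 (Q.mul_mem hmem (Q.inv_mem hq)))
      have hθl : ∀ q ∈ Q, θ l * q * (θ l)⁻¹ = l * q * l⁻¹ := fun q hq => by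
        calc θ l * q * (θ l)⁻¹ = l * (w * q * w⁻¹) * l⁻¹ := by rw [hw]; group
          _ = l * q * l⁻¹ := by rw [hwQ q hq]
      have hδ : l * q₁ * l⁻¹ * q₁⁻¹ ∈ U := mem_inf.2
        ⟨R.mul_mem ((mem_normalizer_iff.1 hlN q₁).1 (hQR hq₁)) (R.inv_mem (hQR hq₁)),
          by rw [show l * q₁ * l⁻¹ * q₁⁻¹ = l * (q₁ * l⁻¹ * q₁⁻¹) by group]
             exact L.mul_mem hlL (c.normal.conj_mem _ (L.inv_mem hlL) q₁)⟩
      have h1 : l * θ q₁ * l⁻¹ = l * q₁ * l⁻¹ * q₁⁻¹ * θ q₁ := by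
        have h2 := hθU _ hδ
        simp only [map_mul, map_inv, hθl (θ q₁) (hθQ q₁ hq₁), mul_inv_eq_iff_eq_mul] at h2
        exact mul_inv_eq_iff_eq_mul.2 h2
      show l * (q₁⁻¹ * θ q₁) * l⁻¹ = q₁⁻¹ * θ q₁
      calc l * (q₁⁻¹ * θ q₁) * l⁻¹ = (l * q₁ * l⁻¹)⁻¹ * (l * θ q₁ * l⁻¹) := by group
        _ = q₁⁻¹ * θ q₁ := by rw [h1]; group
    have hcom : ⁅Q, Q⁆ ≤ centralizer {l} := commutator_le.2 fun q hq t ht => by
      rw [mem_centralizer_singleton_iff]
      have h := mul_inv_eq_iff_eq_mul.1 (key t ht q⁻¹ (Q.inv_mem hq))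
      rw [show (q⁻¹)⁻¹ * (t * q⁻¹ * t⁻¹) = ⁅q, t⁆ by rw [commutatorElement_def]; group] at h
      exact h.symm
    have hzl : z * l = l * z := mem_centralizer_singleton_iff.1 (hcom hzd)
    calc (l * q₀)⁻¹ * z * (l * q₀) = q₀⁻¹ * (l⁻¹ * (z * l)) * q₀ := by group
      _ = q₀⁻¹ * z * q₀ := by rw [hzl]; group
      _ = z := by rw [mul_assoc, ← hzc q₀ hq₀]; group
  · -- move to the larger subgroup `R ⊔ T`
    obtain ⟨d, hd, hdx⟩ : ∃ d ∈ C, d * x ∈ normalizer (T : Set H) := by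
      set T' := T.map (MulAut.conj x).toMonoidHom with hT'
      have hT'M : T' ≤ M := by
        rintro _ ⟨t, ht, rfl⟩
        exact hNM x hx t ht.2
      have hcard : Nat.card T' = Nat.card T :=
        card_map_of_injective (MulAut.conj x).injective
      have hT'i : ¬ 2 ∣ T'.relIndex M := by
        have e1 := PSolvable.card_mul_relIndex hT'M
        have e2 := PSolvable.card_mul_relIndex (inf_le_right : T ≤ M)
        rw [hcard, ← e2] at e1
        rwa [Nat.eq_of_mul_eq_mul_left Nat.card_pos e1]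
      let S₁ : Sylow 2 M := (hTp.comap_subtype (K := M)).toSylow hTM
      let S₂ : Sylow 2 M :=
        ((hTp.map (MulAut.conj x).toMonoidHom).comap_subtype (K := M)).toSylow hT'i
      obtain ⟨m, hm⟩ := MulAction.exists_smul_eq M S₂ S₁
      obtain ⟨t, ht, d, hd, htd⟩ := hsplit m m.2
      refine ⟨d, hd, PSolvable.mem_normalizer_of_conj_mem fun y hy => ?_⟩
      have hy' : x * y * x⁻¹ ∈ M := hT'M ⟨y, hy, rfl⟩
      have h1 : m * (⟨_, hy'⟩ : M) * m⁻¹ ∈ ((m • S₂ : Sylow 2 M) : Subgroup M) := by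
        rw [Sylow.coe_subgroup_smul]
        exact smul_mem_pointwise_smul _ (MulAut.conj m) _ (show (x * y * x⁻¹) ∈ T' from ⟨y, hy, rfl⟩)
      rw [hm] at h1
      have h2 : (m : H) * (x * y * x⁻¹) * (m : H)⁻¹ ∈ T := h1
      rw [← htd] at h2
      have h3 := T.mul_mem (T.mul_mem (T.inv_mem ht) h2) ht
      rw [show d * x * y * (d * x)⁻¹ = t⁻¹ * (t * d * (x * y * x⁻¹) * (t * d)⁻¹) * t by group]
      exact h3
    have hdN : d * x ∈ N := N.mul_mem hd.1.1 hx
    set A := R ⊔ T with hA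
    have hAn : ∀ a ∈ A, (d * x)⁻¹ * a * (d * x) ∈ A := by
      intro a ha
      have : (A.map (MulAut.conj (d * x)⁻¹).toMonoidHom) ≤ A := by
        rw [hA, Subgroup.map_sup]
        refine sup_le_sup ?_ ?_ <;> rintro _ ⟨r, hr, rfl⟩ <;>
          simp only [MulEquiv.coe_toMonoidHom, MulAut.conj_apply, inv_inv]
        · exact (mem_normalizer_iff''.1 hdN r).1 hr
        · exact (mem_normalizer_iff''.1 hdx r).1 hr
      have h5 := this ⟨a, ha, rfl⟩
      simp only [MulEquiv.coe_toMonoidHom, MulAut.conj_apply, inv_inv] at h5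
      exact h5
    have hAP : A ≤ (P : Subgroup H) := sup_le hRP inf_le_left
    have hlt : R < A := lt_of_le_of_ne le_sup_left fun h => hTR (h ▸ le_sup_right)
    have h1 := IH A hAP (le_sup_left (b := T) hzR) (AlperinTame.card_lt_card_of_lt' hlt) (d * x)
      fun a ha => hAP (hAn a ha)
    have h2 : z * d = d * z := mem_centralizer_iff.1 hd.2 z hzR
    calc x⁻¹ * z * x = (d * x)⁻¹ * (d * z) * x := by group
      _ = (d * x)⁻¹ * z * (d * x) := by rw [← h2]; group
      _ = z := h1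

/-- A central element of `Q` has no other conjugate in `P`. -/
theorem conj_eq [Finite H] [Fact (Nat.Prime 2)] (c : Frame P L Q) {z : H} (hz : z ∈ Q)
    (hzd : z ∈ ⁅Q, Q⁆) (hzc : ∀ q ∈ Q, q * z = z * q) {g : H} (hg : g⁻¹ * z * g ∈ (P : Subgroup H)) :
    g⁻¹ * z * g = z := by
  have key : ∀ n (A : Subgroup H), A ≤ (P : Subgroup H) → z ∈ A →
      Nat.card (P : Subgroup H) - Nat.card A = n →
      ∀ g, (∀ a ∈ A, g⁻¹ * a * g ∈ (P : Subgroup H)) → g⁻¹ * z * g = z := by
    intro n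
    induction n using Nat.strong_induction_on with
    | _ n ih =>
    intro A hAP hzA hn g hg
    have hsteps := AlperinTame.exists_tameSteps P (A : Set H) g hAP
      (by rintro _ ⟨a, ha, rfl⟩; exact hg a ha)
    have gen : ∀ (B : Set H) (g : H), AlperinTame.TameSteps P B g → z ∈ B →
        Nat.card A ≤ Nat.card B → g⁻¹ * z * g = z := by
      intro B g h
      induction h with
      | nil B => intros; simp
      | @cons B g T x hT hBT hx _ _ ihs =>
        intro hzB hcard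
        set R := (P : Subgroup H) ⊓ (T : Subgroup H) with hR
        have hcardR : Nat.card A ≤ Nat.card R :=
          hcard.trans (Nat.card_mono (Set.toFinite _) hBT)
        have h1 : x⁻¹ * z * x = z := by
          refine step c hz hzd hzc inf_le_left (hBT hzB) hT.1 ?_ hx
          intro A' hA'P hzA' hlt' g' hg'
          have hlt : Nat.card R < Nat.card A' := hlt'
          refine ih _ ?_ A' hA'P hzA' rfl g' hg'
          have := card_le_of_le hA'P
          omega
        have h2 := ihs ⟨z, hzB, h1⟩ (by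
          refine hcard.trans (le_of_eq ?_)
          exact (Nat.card_image_of_injective
            (fun a b hab => mul_left_cancel (mul_right_cancel hab)) B).symm)
        calc (x * g)⁻¹ * z * (x * g) = g⁻¹ * (x⁻¹ * z * x) * g := by group
          _ = z := by rw [h1, h2]
    exact gen _ g hsteps hzA le_rfl
  exact key _ (zpowers z) (zpowers_le.2 (c.QP hz)) (mem_zpowers z) rfl g fun a ha => by
    obtain ⟨i, rfl⟩ := ha
    show g⁻¹ * z ^ i * g ∈ _
    rw [show g⁻¹ * z ^ i * g = (g⁻¹ * z * g) ^ i by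
      simpa using (conj_zpow (a := g⁻¹) (b := z) (i := i)).symm]
    exact zpow_mem hg i

/-- An involution in the centre of `Q` is isolated. -/
theorem isolated [Finite H] [Fact (Nat.Prime 2)] (c : Frame P L Q) {z : H} (hz : z ∈ Q)
    (hzd : z ∈ ⁅Q, Q⁆) (hz2 : orderOf z = 2) (hzc : ∀ q ∈ Q, q * z = z * q) : IsIsolatedInvolution z := by
  refine ⟨hz2, fun g hcomm => ?_⟩
  set t := g * z * g⁻¹ with ht
  have ht2 : orderOf t = 2 := (Involution.isConj_orderOf (isConj_iff.2 ⟨g, rfl⟩)).trans hz2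
  have hV : IsPGroup 2 (zpowers z ⊔ zpowers t : Subgroup H) := by
    refine IsPGroup.to_sup_of_normal_right' (IsPGroup.of_card (n := 1) (by rw [Nat.card_zpowers, hz2, pow_one]))
      (IsPGroup.of_card (n := 1) (by rw [Nat.card_zpowers, ht2, pow_one])) ?_
    refine le_trans ?_ (centralizer_le_normalizer _)
    rw [zpowers_le, mem_centralizer_iff]
    rintro _ ⟨i, rfl⟩
    exact (hcomm.zpow_right i).symm.eq
  obtain ⟨S, hS⟩ := hV.exists_le_sylow
  obtain ⟨h, hh⟩ := MulAction.exists_smul_eq H S P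
  have hmem : ∀ y ∈ zpowers z ⊔ zpowers t, h * y * h⁻¹ ∈ (P : Subgroup H) := fun y hy => by
    rw [← hh, AlperinTame.mem_smul_sylow, show h⁻¹ * (h * y * h⁻¹) * h = y by group]
    exact hS hy
  have e1 : h * z * h⁻¹ = z := by
    have h0 := hmem z (mem_sup_left (mem_zpowers z))
    simpa using conj_eq c hz hzd hzc (g := h⁻¹) (by simpa using h0)
  have e2 : h * t * h⁻¹ = z := by
    have h0 := hmem t (mem_sup_right (mem_zpowers t))
    have h3 : h * t * h⁻¹ = (h * g) * z * (h * g)⁻¹ := by rw [ht]; group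
    rw [h3] at h0 ⊢
    simpa using conj_eq c hz hzd hzc (g := (h * g)⁻¹) (by simpa using h0)
  calc t = h⁻¹ * (h * t * h⁻¹) * h := by group
    _ = h⁻¹ * (h * z * h⁻¹) * h := by rw [e1, e2]
    _ = z := by group

end Cfsg.Agent.Lib.SylowAutAbelian
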