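import Cfsg.Agent.Lib.SylowAutAbelian.Frame

/-!
# Glauberman: abelian Sylow 2-subgroups in the centralizer of a Sylow 2-subgroup
-/

set_option autoImplicit false

namespace Cfsg.Agent.Lib.SylowAutAbelian

open Cfsg Subgroup
open scoped commutatorElement
open Cfsg.Agent.Lib

universe u

variable {L₀ : Type u} [Group L₀] [Finite L₀]

theorem commutator_eq_bot (hO : oddCore L₀ = ⊥) (S : Sylow 2 L₀) (B : Subgroup (MulAut L₀))
    (hB : IsPGroup 2 B) (hBS : ∀ b ∈ B, ∀ s ∈ (S : Subgroup L₀), b s = s) :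
    ⁅B, B⁆ = ⊥ := by
  classical
  haveI : Fact (Nat.Prime 2) := ⟨Nat.prime_two⟩
  haveI : Finite (MulAut L₀) :=
    Finite.of_injective (fun f => (f : L₀ → L₀)) DFunLike.coe_injective
  by_contra hne
  have hne' : commutator B ≠ ⊥ := fun h => hne (by
    rw [← map_subtype_commutator, h, Subgroup.map_bot])
  haveI := hB.isNilpotent
  obtain ⟨w, hw, hw1⟩ := (Subgroup.bot_or_exists_ne_one (commutator B ⊓ Subgroup.center B)).resolve_left
    (Nilp.inf_center_ne_bot_of_normal hne')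
  obtain ⟨j, hj⟩ := exists_prime_orderOf_dvd_card' (G := (commutator B ⊓ Subgroup.center B : Subgroup B)) 2 (by
    obtain ⟨k, hk0, hk⟩ := (hB.to_subgroup (commutator B ⊓ Subgroup.center B)).nontrivial_iff_card.1
      ((nontrivial_iff_exists_ne_one _).2 ⟨w, hw, hw1⟩)
    exact hk ▸ dvd_pow_self 2 hk0.ne')
  let z₀ : Subgroup.center B := ⟨(j : B), j.2.2⟩
  have hz₀ : orderOf z₀ = 2 := by
    rw [← Subgroup.orderOf_coe] at hj ⊢
    exact hj
  haveI : Finite (L₀ ⋊[B.subtype] B) := Coprime.finite_semidirect B.subtype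
  let il : L₀ →* (L₀ ⋊[B.subtype] B) := SemidirectProduct.inl
  let ir : B →* (L₀ ⋊[B.subtype] B) := SemidirectProduct.inr
  have hiln : il.range.Normal := by
    rw [SemidirectProduct.range_inl_eq_ker_rightHom]; exact MonoidHom.normal_ker _
  let P₀ : Subgroup (L₀ ⋊[B.subtype] B) :=
    { carrier := {h | h.left ∈ (S : Subgroup L₀)}
      mul_mem' := fun {x y} hx hy => by
        show x.left * (x.right : MulAut L₀) y.left ∈ (S : Subgroup L₀)
        rw [hBS _ x.right.2 _ hy]; exact mul_mem hx hy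
      one_mem' := one_mem (S : Subgroup L₀)
      inv_mem' := fun {x} hx => by
        show ((x.right⁻¹ : B) : MulAut L₀) x.left⁻¹ ∈ (S : Subgroup L₀)
        rw [hBS _ (x.right⁻¹).2 _ (inv_mem hx)]; exact inv_mem hx }
  have hP₀p : IsPGroup 2 P₀ := by
    intro x
    obtain ⟨i, hi⟩ := S.2 ⟨(x : (L₀ ⋊[B.subtype] B)).left, x.2⟩
    obtain ⟨k, hk⟩ := hB (x : (L₀ ⋊[B.subtype] B)).right
    have hpow : ∀ m : ℕ, ((x : (L₀ ⋊[B.subtype] B)) ^ m).left = (x : (L₀ ⋊[B.subtype] B)).left ^ m ∧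
        ((x : (L₀ ⋊[B.subtype] B)) ^ m).right = (x : (L₀ ⋊[B.subtype] B)).right ^ m := by
      intro m
      induction m with
      | zero => simp
      | succ m ih =>
        refine ⟨?_, by rw [pow_succ, SemidirectProduct.mul_right, ih.2, pow_succ]⟩
        rw [pow_succ, SemidirectProduct.mul_left, ih.1, ih.2, pow_succ]
        congr 1
        exact hBS _ ((x : (L₀ ⋊[B.subtype] B)).right ^ m).2 _ x.2
    refine ⟨i + k, Subtype.ext ?_⟩
    have hi' : (x : (L₀ ⋊[B.subtype] B)).left ^ 2 ^ i = 1 := congrArg Subtype.val hi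
    refine SemidirectProduct.ext ?_ ?_
    · rw [Subgroup.coe_pow, (hpow _).1, pow_add, pow_mul, hi', one_pow]; rfl
    · rw [Subgroup.coe_pow, (hpow _).2, pow_add, mul_comm, pow_mul, hk, one_pow]; rfl
  have hP₀i : ¬ 2 ∣ P₀.index := by
    have e : Nat.card P₀ = Nat.card (S : Subgroup L₀) * Nat.card B := by
      rw [← Nat.card_prod]
      exact Nat.card_congr
        { toFun := fun x => (⟨(x : (L₀ ⋊[B.subtype] B)).left, x.2⟩, (x : (L₀ ⋊[B.subtype] B)).right)
          invFun := fun y => ⟨⟨y.1, y.2⟩, y.1.2⟩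
          left_inv := fun _ => rfl
          right_inv := fun _ => rfl }
    have h1 := P₀.card_mul_index
    rw [e, SemidirectProduct.card, ← (S : Subgroup L₀).card_mul_index] at h1
    have h2 : P₀.index = (S : Subgroup L₀).index :=
      Nat.eq_of_mul_eq_mul_left (Nat.mul_pos Nat.card_pos Nat.card_pos) (h1.trans (by ring))
    rw [h2]
    exact S.not_dvd_index
  let P : Sylow 2 (L₀ ⋊[B.subtype] B) := hP₀p.toSylow hP₀i
  have hPeq : ∀ h : (L₀ ⋊[B.subtype] B), h ∈ (P : Subgroup (L₀ ⋊[B.subtype] B)) ↔ h.left ∈ (S : Subgroup L₀) := fun h => Iff.rfl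
  have hc : Frame P il.range ir.range :=
    { normal := hiln
      QP := by rintro _ ⟨b, rfl⟩; exact (hPeq _).2 (one_mem _)
      disj := by
        rintro _ ⟨l, rfl⟩ ⟨b, hb⟩
        have hl : (1 : L₀) = l := congrArg SemidirectProduct.left hb
        rw [← hl, map_one]
      mul := fun h => ⟨il h.left, ⟨_, rfl⟩, ir h.right, ⟨_, rfl⟩,
        SemidirectProduct.inl_left_mul_inr_right h⟩
      cent := by
        rintro _ ⟨l, rfl⟩ hu _ ⟨b, rfl⟩
        exact SemidirectProduct.ext (by simp [il, ir, hBS b b.2 l ((hPeq _).1 hu)]) (by simp [il, ir]) }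
  have hOH : oddCore (L₀ ⋊[B.subtype] B) = ⊥ := by
    rw [eq_bot_iff]
    intro h hh
    have ho : Odd (orderOf h) := (Nat.coprime_two_right.1
      (PSolvable.pPrimeCore_coprime (p := 2) (G := (L₀ ⋊[B.subtype] B)))).of_dvd_nat
      (Subgroup.orderOf_dvd_natCard _ hh)
    obtain ⟨l, rfl⟩ := mem_of_odd hc ho
    have hle : (oddCore (L₀ ⋊[B.subtype] B)).comap il ≤ oddCore L₀ := by
      refine PSolvable.le_pPrimeCore ?_
      refine (PSolvable.pPrimeCore_coprime (p := 2) (G := (L₀ ⋊[B.subtype] B))).coprime_dvd_left ?_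
      rw [← card_map_of_injective (f := il) SemidirectProduct.inl_injective]
      exact card_dvd_of_le (map_comap_le _ _)
    have hl : l = 1 := by simpa [hO] using hle hh
    rw [hl, map_one]
    exact one_mem _
  have hz : orderOf (ir (z₀ : B)) = 2 := by
    rw [orderOf_injective ir SemidirectProduct.inr_injective, Subgroup.orderOf_coe, hz₀]
  have hzd : ir (z₀ : B) ∈ ⁅ir.range, ir.range⁆ := by
    rw [MonoidHom.range_eq_map, ← Subgroup.map_commutator]
    exact ⟨_, j.2.1, rfl⟩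
  have hiso := isolated hc ⟨_, rfl⟩ hzd hz (by
    rintro _ ⟨b, rfl⟩
    rw [← map_mul, ← map_mul, Subgroup.mem_center_iff.1 z₀.2 b])
  have htriv : ((z₀ : B) : MulAut L₀) = 1 := by
    refine MulEquiv.ext fun l => ?_
    have h1 := ZStar.zStar (L₀ ⋊[B.subtype] B) (ir (z₀ : B)) hiso (il l)
    rw [hOH, mem_bot, mul_inv_eq_one] at h1
    have h2 := congrArg SemidirectProduct.left h1
    simpa [il, ir] using h2
  rw [← Subgroup.orderOf_coe, show (z₀ : B) = 1 from Subtype.ext htriv, orderOf_one] at hz₀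
  omega


/-- **Glauberman**: Sylow 2-subgroups of the automorphisms centralizing a Sylow 2-subgroup are
abelian. -/
theorem sylow_comm (hO : oddCore L₀ = ⊥) (S : Sylow 2 L₀) (A : Subgroup (MulAut L₀))
    (hA : ∀ a ∈ A, ∀ s ∈ (S : Subgroup L₀), a s = s) (T : Sylow 2 A) (a b : T) : a * b = b * a := by
  have h := commutator_eq_bot hO S _ (T.2.map A.subtype)
    (by rintro _ ⟨x, -, rfl⟩ s hs; exact hA x x.2 s hs)
  have h1 : ⁅((a : A) : MulAut L₀), ((b : A) : MulAut L₀)⁆ = 1 := by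
    rw [← mem_bot, ← h]
    exact commutator_mem_commutator ⟨_, a.2, rfl⟩ ⟨_, b.2, rfl⟩
  exact Subtype.ext (Subtype.ext (commutatorElement_eq_one_iff_mul_comm.1 h1))

end Cfsg.Agent.Lib.SylowAutAbelian
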